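import Groth.Agent.AbSch.K630.Coc

/-!
# Extensions of abelian fppf sheaves from symmetric cocycles on a covering

`G B : EtFppf.AbF S`, `X : Over S`, `p ∈ G(X)` locally surjective (`Cd.lift`), `b` a symmetric cocycle on `X` with values
in `B` (`Cd`). `exists_ext`: the extension `0 → B → E → G → 0` with a section `e ∈ E(X)` over `p` such that
`e_x + e_y - e_z = b(x, y, z)`.
-/

set_option autoImplicit false
universe u
open CategoryTheory CategoryTheory.Limits MonoidalCategory CartesianMonoidalCategory MonObj AlgebraicGeometry Opposite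

noncomputable section

namespace K544.CocExt

open Groth.Agent.Etdl.H432.Sec

variable {S : Scheme.{u}}

/-! ### Local truth -/

/-- `Q` holds fppf-locally. -/
def Loc (U : Over S) (Q : ∀ V : Over S, (V ⟶ U) → Prop) : Prop :=
  ∀ x : U.left, ∃ (V : Over S) (k : V ⟶ U), Flat k.left ∧ LocallyOfFinitePresentation k.left ∧
    x ∈ Set.range k.left ∧ Q V k

theorem Loc.mono {U : Over S} {Q Q' : ∀ V : Over S, (V ⟶ U) → Prop} (h : Loc U Q) (hQ : ∀ V k, Q V k → Q' V k) :
    Loc U Q' := fun x => by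
  obtain ⟨V, k, h1, h2, h3, h4⟩ := h x
  exact ⟨V, k, h1, h2, h3, hQ _ _ h4⟩

theorem Loc.bind {U : Over S} {Q Q' : ∀ V : Over S, (V ⟶ U) → Prop} (h : Loc U Q)
    (hQ : ∀ V (k : V ⟶ U), Q V k → Loc V (fun V' k' => Q' V' (k' ≫ k))) : Loc U Q' := fun x => by
  obtain ⟨V, k, h1, h2, ⟨v, h3⟩, h4⟩ := h x
  obtain ⟨V', k', g1, g2, ⟨v', g3⟩, g4⟩ := hQ V k h4 v
  refine ⟨V', k' ≫ k, ?_, ?_, ⟨v', ?_⟩, g4⟩
  · rw [Over.comp_left]
    exact MorphismProperty.comp_mem @Flat _ _ g1 h1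
  · rw [Over.comp_left]
    exact MorphismProperty.comp_mem @LocallyOfFinitePresentation _ _ g2 h2
  · rw [Over.comp_left, Scheme.Hom.comp_apply, g3, h3]

theorem Loc.pull {U V : Over S} {Q : ∀ V : Over S, (V ⟶ U) → Prop} (h : Loc U Q) (g : V ⟶ U) :
    Loc V (fun V' k => ∃ (W : Over S) (a : V' ⟶ W) (l : W ⟶ U), a ≫ l = k ≫ g ∧ Q W l) := fun x => by
  obtain ⟨W, l, h1, h2, ⟨w, h3⟩, h4⟩ := h (g.left x)
  obtain ⟨R, a, b, hab, hpb, hpt⟩ := exists_pb g l
  obtain ⟨z, hz, -⟩ := hpt x w h3.symm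
  exact ⟨R, a, MorphismProperty.of_isPullback hpb.flip h1, MorphismProperty.of_isPullback hpb.flip h2,
    ⟨z, hz⟩, W, b, l, hab.symm, h4⟩

/-- Sections which agree locally agree. -/
theorem ext_loc (F : EtFppf.AbF S) {U : Over S} {s t : Γs F U} (h : Loc U (fun _ k => r F k s = r F k t)) : s = t :=
  ext_local F s t h

/-- Relational gluing. -/
theorem glue_loc (F : EtFppf.AbF S) {U : Over S} (R : ∀ V : Over S, (V ⟶ U) → Γs F V → Prop)
    (hr : ∀ {V V' : Over S} (g : V' ⟶ V) (k : V ⟶ U) (s : Γs F V), R V k s → R V' (g ≫ k) (r F g s))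
    (hf : ∀ {V : Over S} (k : V ⟶ U) (s s' : Γs F V), R V k s → R V k s' → s = s')
    (hl : Loc U (fun V k => ∃ s, R V k s)) : ∃ t : Γs F U, ∀ (V : Over S) (k : V ⟶ U) (s : Γs F V), R V k s → r F k t = s := by
  have hl' := hl
  choose V k h1 h2 h3 s h4 using hl'
  obtain ⟨t, ht⟩ := glue F (V := V) (g := k) (fun x => ⟨x, h1 x, h2 x, h3 x⟩) s (fun i j Z a b hab => by
    have e1 := hr a _ _ (h4 i)
    have e2 := hr b _ _ (h4 j)
    rw [hab] at e1
    exact hf _ _ _ e1 e2)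
  refine ⟨t, fun W l s' hs' => ?_⟩
  have hq : Loc U (fun V k => ∃ s, R V k s ∧ r F k t = s) := fun x => ⟨V x, k x, h1 x, h2 x, h3 x, s x, h4 x, ht x⟩
  refine ext_loc F ((hq.pull l).mono ?_)
  rintro V' k' ⟨W', a, l', hal, σ, hσ, hσt⟩
  rw [r_r, ← hal, ← r_r, hσt]
  have e1 := hr a _ _ hσ
  rw [hal] at e1
  exact hf _ _ _ e1 (hr k' _ _ hs')

/-! ### Cocycles -/

/-- Symmetric cocycles on a covering. -/
structure Cd (G B : EtFppf.AbF S) {X : Over S} (p : Γs G X) where
  b : ∀ {W : Over S} (x y z : W ⟶ X), r G x p + r G y p = r G z p → Γs B W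
  nat : ∀ {W W' : Over S} (k : W' ⟶ W) (x y z : W ⟶ X) (h : r G x p + r G y p = r G z p)
    (h' : r G (k ≫ x) p + r G (k ≫ y) p = r G (k ≫ z) p),
    r B k (b x y z h) = b (k ≫ x) (k ≫ y) (k ≫ z) h'
  symm : ∀ {W : Over S} (x y z : W ⟶ X) (h : r G x p + r G y p = r G z p) (h' : r G y p + r G x p = r G z p),
    b x y z h = b y x z h'
  assoc : ∀ {W : Over S} (x y z u v w : W ⟶ X) (h₁ : r G x p + r G y p = r G u p) (h₂ : r G u p + r G z p = r G w p)
    (h₃ : r G y p + r G z p = r G v p) (h₄ : r G x p + r G v p = r G w p),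
    b x y u h₁ + b u z w h₂ = b y z v h₃ + b x v w h₄
  lift : ∀ {W : Over S} (t : Γs G W), Loc W (fun V k => ∃ x : V ⟶ X, r G x p = r G k t)

namespace Cd

variable {G B : EtFppf.AbF S} {X : Over S} {p : Γs G X} (c : Cd G B p)

theorem pc {W W' : Over S} (k : W' ⟶ W) (x : W ⟶ X) : r G (k ≫ x) p = r G k (r G x p) := (r_r G x k p).symm

theorem h2 {W W' : Over S} (k : W' ⟶ W) {x y z : W ⟶ X} (h : r G x p + r G y p = r G z p) :
    r G (k ≫ x) p + r G (k ≫ y) p = r G (k ≫ z) p := by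
  rw [pc, pc, pc, ← map_add, h]

theorem heq {W W' : Over S} (k : W' ⟶ W) {x y : W ⟶ X} (h : r G x p = r G y p) :
    r G (k ≫ x) p = r G (k ≫ y) p := by
  rw [pc, pc, h]

/-- `b` and restriction -/
theorem nat' {W W' : Over S} (k : W' ⟶ W) {x y z : W ⟶ X} (h : r G x p + r G y p = r G z p) :
    r B k (c.b x y z h) = c.b (k ≫ x) (k ≫ y) (k ≫ z) (h2 k h) := c.nat k x y z h _

/-- The difference does not depend on `y`, `z`, given `w`. -/
theorem δ_aux' {W : Over S} (x x' y z y' z' w : W ⟶ X)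
    (e : r G x p = r G x' p) (h : r G x p + r G y p = r G z p) (h' : r G x p + r G y' p = r G z' p)
    (hw : r G y p + r G w p = r G y' p) :
    c.b x y z h - c.b x' y z (e ▸ h) = c.b x y' z' h' - c.b x' y' z' (e ▸ h') := by
  have hz : r G z p + r G w p = r G z' p := by
    rw [← h, ← h', ← hw, add_assoc]
  have e1 := c.assoc x y w z y' z' h hz hw h'
  have e2 := c.assoc x' y w z y' z' (e ▸ h) hz hw (e ▸ h')
  have e3 := congrArg₂ (fun a b => a - b) e1 e2
  rw [add_sub_add_right_eq_sub, add_sub_add_left_eq_sub] at e3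
  exact e3

/-- The difference does not depend on `y`, `z`. -/
theorem δ_aux {W : Over S} (x x' y z y' z' : W ⟶ X)
    (e : r G x p = r G x' p) (h : r G x p + r G y p = r G z p) (h' : r G x p + r G y' p = r G z' p) :
    c.b x y z h - c.b x' y z (e ▸ h) = c.b x y' z' h' - c.b x' y' z' (e ▸ h') := by
  refine ext_loc B ((c.lift (r G y' p - r G y p)).mono ?_)
  rintro V k ⟨w, hw⟩
  rw [map_sub, map_sub, nat', nat', nat', nat']
  refine c.δ_aux' _ _ _ _ _ _ w (heq k e) (h2 k h) (h2 k h') ?_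
  rw [hw, map_sub, pc, pc]
  abel

theorem exists_δ {W : Over S} (x x' : W ⟶ X) (e : r G x p = r G x' p) : ∃ d : Γs B W,
    ∀ {V : Over S} (k : V ⟶ W) (y z : V ⟶ X) (h : r G (k ≫ x) p + r G y p = r G z p)
      (h' : r G (k ≫ x') p + r G y p = r G z p), r B k d = c.b (k ≫ x) y z h - c.b (k ≫ x') y z h' := by
  obtain ⟨d, hd⟩ := glue_loc B (U := W) (fun V k s => ∃ (y z : V ⟶ X) (h : r G (k ≫ x) p + r G y p = r G z p)
      (h' : r G (k ≫ x') p + r G y p = r G z p), s = c.b (k ≫ x) y z h - c.b (k ≫ x') y z h')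
    (by
      rintro V V' g k _ ⟨y, z, h, h', rfl⟩
      refine ⟨g ≫ y, g ≫ z, ?_, ?_, ?_⟩
      · rw [Category.assoc]; exact h2 g h
      · rw [Category.assoc]; exact h2 g h'
      · rw [map_sub, nat', nat']
        simp only [Category.assoc])
    (by
      rintro V k _ _ ⟨y, z, h, h', rfl⟩ ⟨y', z', g, g', rfl⟩
      exact c.δ_aux _ _ _ _ _ _ (heq k e) h g)
    ((c.lift (0 : Γs G W)).bind (fun V k ⟨y, hy⟩ =>
      (c.lift (r G (k ≫ x) p)).mono (fun V' k' ⟨z, hz⟩ => by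
        rw [map_zero] at hy
        refine ⟨_, k' ≫ y, z, ?_, ?_, rfl⟩
        · rw [Category.assoc, hz, pc k' y, hy, map_zero, add_zero, ← pc]
        · rw [Category.assoc, hz, pc k' y, hy, map_zero, add_zero, ← pc]
          exact heq k' (heq k e.symm))))
  exact ⟨d, fun {V} k y z h h' => hd V k _ ⟨y, z, h, h', rfl⟩⟩

/-- The difference `e_x - e_x'` for `p x = p x'`. -/
def δ {W : Over S} (x x' : W ⟶ X) (e : r G x p = r G x' p) : Γs B W := (c.exists_δ x x' e).choose

theorem r_δ {W V : Over S} (x x' : W ⟶ X) (e : r G x p = r G x' p) (k : V ⟶ W) (y z : V ⟶ X)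
    (h : r G (k ≫ x) p + r G y p = r G z p) (h' : r G (k ≫ x') p + r G y p = r G z p) :
    r B k (c.δ x x' e) = c.b (k ≫ x) y z h - c.b (k ≫ x') y z h' :=
  (c.exists_δ x x' e).choose_spec k y z h h'

theorem δ_eq {W : Over S} (x x' y z : W ⟶ X) (e : r G x p = r G x' p)
    (h : r G x p + r G y p = r G z p) (h' : r G x' p + r G y p = r G z p) :
    c.δ x x' e = c.b x y z h - c.b x' y z h' := by
  have := c.r_δ x x' e (𝟙 W) y z (by rw [Category.id_comp]; exact h) (by rw [Category.id_comp]; exact h')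
  rw [r_id] at this
  rw [this]
  simp only [Category.id_comp]

include c in
/-- Local existence of `y, z` with `x + y = z`. -/
theorem exists_yz {W : Over S} (x : W ⟶ X) :
    Loc W (fun V k => ∃ (y z : V ⟶ X), r G (k ≫ x) p + r G y p = r G z p) := by
  refine (c.lift (0 : Γs G W)).bind (fun V k ⟨y, hy⟩ =>
      (c.lift (r G (k ≫ x) p)).mono (fun V' k' ⟨z, hz⟩ => ⟨k' ≫ y, z, ?_⟩))
  rw [map_zero] at hy
  rw [Category.assoc, hz, pc k' y, hy, map_zero, add_zero, ← pc]

theorem δ_nat {W W' : Over S} (k : W' ⟶ W) (x x' : W ⟶ X) (e : r G x p = r G x' p) :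
    r B k (c.δ x x' e) = c.δ (k ≫ x) (k ≫ x') (heq k e) := by
  refine ext_loc B ((c.exists_yz (k ≫ x)).mono ?_)
  rintro V l ⟨y, z, h⟩
  have h' : r G (l ≫ k ≫ x') p + r G y p = r G z p := by
    rw [← heq l (heq k e)]; exact h
  rw [r_r, c.r_δ _ _ _ l y z h h', c.r_δ _ _ _ (l ≫ k) y z (by rw [Category.assoc]; exact h)
    (by rw [Category.assoc]; exact h')]
  simp only [Category.assoc]

theorem δ_trans {W : Over S} (x x' x'' : W ⟶ X) (e : r G x p = r G x' p) (e' : r G x' p = r G x'' p) :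
    c.δ x x' e + c.δ x' x'' e' = c.δ x x'' (e.trans e') := by
  refine ext_loc B ((c.exists_yz x).mono ?_)
  rintro V k ⟨y, z, h⟩
  have h1 : r G (k ≫ x') p + r G y p = r G z p := by rw [← heq k e]; exact h
  have h2 : r G (k ≫ x'') p + r G y p = r G z p := by rw [← heq k e']; exact h1
  rw [map_add, c.r_δ _ _ _ _ _ _ h h1, c.r_δ _ _ _ _ _ _ h1 h2, c.r_δ _ _ _ _ _ _ h h2]
  abel

theorem δ_self {W : Over S} (x : W ⟶ X) : c.δ x x rfl = 0 := by
  have := c.δ_trans x x x rfl rfl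
  exact left_eq_add.mp this.symm

theorem δ_symm {W : Over S} (x x' : W ⟶ X) (e : r G x p = r G x' p) : c.δ x' x e.symm = - c.δ x x' e := by
  rw [eq_neg_iff_add_eq_zero, c.δ_trans x' x x']
  exact c.δ_self x'

theorem b_left {W : Over S} (x x' y z : W ⟶ X) (h : r G x p + r G y p = r G z p)
    (h' : r G x' p + r G y p = r G z p) (e : r G x p = r G x' p) :
    c.b x y z h = c.b x' y z h' + c.δ x x' e := by
  rw [c.δ_eq x x' y z e h h']
  abel

theorem b_mid {W : Over S} (x y y' z : W ⟶ X) (h : r G x p + r G y p = r G z p)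
    (h' : r G x p + r G y' p = r G z p) (e : r G y p = r G y' p) :
    c.b x y z h = c.b x y' z h' + c.δ y y' e := by
  rw [c.symm x y z h ((add_comm _ _).trans h), c.symm x y' z h' ((add_comm _ _).trans h')]
  exact c.b_left _ _ _ _ _ _ e

theorem b_right {W : Over S} (x y z z' : W ⟶ X) (h : r G x p + r G y p = r G z p)
    (h' : r G x p + r G y p = r G z' p) (e : r G z p = r G z' p) :
    c.b x y z h = c.b x y z' h' - c.δ z z' e := by
  refine ext_loc B ((c.exists_yz z).bind ?_)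
  rintro V k ⟨w, t, hw⟩
  have hw' : r G (k ≫ z') p + r G w p = r G t p := by rw [← heq k e]; exact hw
  refine (c.lift (r G (k ≫ y) p + r G w p)).mono ?_
  rintro V' l ⟨v, hv⟩
  rw [map_add, ← pc, ← pc] at hv
  have h1 : r G ((l ≫ k) ≫ z) p + r G (l ≫ w) p = r G (l ≫ t) p := by
    rw [Category.assoc]; exact h2 l hw
  have h1' : r G ((l ≫ k) ≫ z') p + r G (l ≫ w) p = r G (l ≫ t) p := by
    rw [Category.assoc]; exact h2 l hw'
  have h3 : r G ((l ≫ k) ≫ y) p + r G (l ≫ w) p = r G v p := by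
    rw [Category.assoc]; exact hv.symm
  have h4 : r G ((l ≫ k) ≫ x) p + r G v p = r G (l ≫ t) p := by
    rw [← h3, ← h1, ← h2 (l ≫ k) h, add_assoc]
  have e1 := c.assoc ((l ≫ k) ≫ x) ((l ≫ k) ≫ y) (l ≫ w) ((l ≫ k) ≫ z) v (l ≫ t) (h2 (l ≫ k) h) h1 h3 h4
  have e2 := c.assoc ((l ≫ k) ≫ x) ((l ≫ k) ≫ y) (l ≫ w) ((l ≫ k) ≫ z') v (l ≫ t) (h2 (l ≫ k) h') h1' h3 h4
  rw [map_sub, c.r_δ z z' e (l ≫ k) (l ≫ w) (l ≫ t) h1 h1', nat', nat']
  rw [← e1] at e2
  rw [eq_sub_iff_add_eq, ← sub_eq_zero]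
  rw [← sub_eq_zero] at e2
  rw [← neg_eq_zero, ← e2]
  abel

/-- for `p y = 0`: `b(x, y, x) = b(y, y, y)` -/
theorem b_zero {W : Over S} (x y z : W ⟶ X) (h : r G x p + r G y p = r G z p) (hy : r G y p = 0)
    (h' : r G y p + r G y p = r G y p) (e : r G x p = r G z p) :
    c.b x y z h = c.b y y y h' + c.δ x z e := by
  have hx : r G x p + r G y p = r G x p := by rw [hy, add_zero]
  have e1 := c.assoc x y y x y x hx hx h' hx
  have e2 : c.b x y x hx = c.b y y y h' := by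
    exact add_right_cancel e1
  rw [← e2, c.b_right x y x z hx h e]
  abel

/-- the cocycle after changing all three arguments -/
theorem b_all {W : Over S} (x y z x' y' z' : W ⟶ X) (h : r G x p + r G y p = r G z p)
    (h' : r G x' p + r G y' p = r G z' p) (ex : r G x p = r G x' p) (ey : r G y p = r G y' p) (ez : r G z p = r G z' p) :
    c.b x y z h = c.b x' y' z' h' + c.δ x x' ex + c.δ y y' ey - c.δ z z' ez := by
  rw [c.b_left x x' y z h (ex ▸ h) ex, c.b_mid x' y y' z (ex ▸ h) (by rw [← ex, ← ey]; exact h) ey,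
    c.b_right x' y' z z' _ h' ez]
  abel

end Cd

/-! ### The sheaf -/

section El

variable {G B : EtFppf.AbF S} {X : Over S} {p : Γs G X}

/-- Elements of the extension: `t ∈ G(W)` and the differences `φ(x) = ε - e_x` for the local lifts `x` of `t`. -/
structure El (c : Cd G B p) (W : Over S) : Type (u + 1) where
  t : Γs G W
  φ : ∀ {V : Over S} (h : V ⟶ W) (x : V ⟶ X), r G x p = r G h t → Γs B V
  nat : ∀ {V V' : Over S} (k : V' ⟶ V) (h : V ⟶ W) (x : V ⟶ X) (e : r G x p = r G h t)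
    (e' : r G (k ≫ x) p = r G (k ≫ h) t), r B k (φ h x e) = φ (k ≫ h) (k ≫ x) e'
  wd : ∀ {V : Over S} (h : V ⟶ W) (x x' : V ⟶ X) (e : r G x p = r G h t) (e' : r G x' p = r G h t),
    φ h x' e' = φ h x e + c.δ x x' (e.trans e'.symm)

variable {c : Cd G B p}

namespace El

theorem he {W V V' : Over S} {t : Γs G W} {h : V ⟶ W} {x : V ⟶ X} (e : r G x p = r G h t) (k : V' ⟶ V) :
    r G (k ≫ x) p = r G (k ≫ h) t := by
  rw [Cd.pc, e, r_r]

/-- Equality of elements. -/
theorem ext' {W : Over S} {a a' : El c W} (ht : a.t = a'.t)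
    (h : ∀ {V : Over S} (h : V ⟶ W) (x : V ⟶ X) (e : r G x p = r G h a.t) (e' : r G x p = r G h a'.t),
      a.φ h x e = a'.φ h x e') : a = a' := by
  obtain ⟨t, φ, n, w⟩ := a
  obtain ⟨t', φ', n', w'⟩ := a'
  obtain rfl : t = t' := ht
  have : @φ = @φ' := by
    funext V k x e
    exact h k x e e
  subst this
  rfl

/-- Restriction. -/
def res {W W' : Over S} (k : W' ⟶ W) (a : El c W) : El c W' where
  t := r G k a.t
  φ h x e := a.φ (h ≫ k) x (e.trans (r_r G k h a.t))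
  nat l h x e e' := by
    rw [a.nat l (h ≫ k) x _ (e'.trans (by rw [r_r, Category.assoc]))]
    rfl
  wd h x x' e e' := a.wd _ _ _ _ _

theorem res_t {W W' : Over S} (k : W' ⟶ W) (a : El c W) : (a.res k).t = r G k a.t := rfl

theorem φ_congr {W V : Over S} (a : El c W) {h h' : V ⟶ W} {x x' : V ⟶ X} (e : r G x p = r G h a.t)
    (hh : h = h') (hx : x = x') (e' : r G x' p = r G h' a.t) : a.φ h x e = a.φ h' x' e' := by
  subst hh hx
  rfl

theorem res_φ {W W' V : Over S} (k : W' ⟶ W) (a : El c W) (h : V ⟶ W') (x : V ⟶ X)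
    (e : r G x p = r G h (a.res k).t) (e' : r G x p = r G (h ≫ k) a.t) : (a.res k).φ h x e = a.φ (h ≫ k) x e' := rfl

theorem res_id {W : Over S} (a : El c W) : a.res (𝟙 W) = a := by
  refine ext' (r_id G a.t) (fun h x e e' => ?_)
  exact a.φ_congr _ (Category.comp_id h) rfl _

theorem res_res {W W' W'' : Over S} (k : W' ⟶ W) (k' : W'' ⟶ W') (a : El c W) :
    (a.res k).res k' = a.res (k' ≫ k) := by
  refine ext' (r_r G k k' a.t) (fun h x e e' => ?_)
  exact a.φ_congr _ (Category.assoc _ _ _) rfl _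

/-- The element `s + e_x`. -/
def mk' {W : Over S} (x : W ⟶ X) (s : Γs B W) : El c W where
  t := r G x p
  φ h x' e := r B h s + c.δ (h ≫ x) x' (by rw [Cd.pc, e])
  nat k h x' e e' := by
    rw [map_add, r_r, c.δ_nat]
    simp only [Category.assoc]
  wd h x₁ x₂ e e' := by
    rw [add_assoc, c.δ_trans]

theorem mk'_t {W : Over S} (x : W ⟶ X) (s : Γs B W) : (mk' (c := c) x s).t = r G x p := rfl

theorem mk'_φ {W V : Over S} (x : W ⟶ X) (s : Γs B W) (h : V ⟶ W) (x' : V ⟶ X)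
    (e : r G x' p = r G h (mk' (c := c) x s).t) (e' : r G (h ≫ x) p = r G x' p) :
    (mk' (c := c) x s).φ h x' e = r B h s + c.δ (h ≫ x) x' e' := rfl

theorem res_mk' {W W' : Over S} (k : W' ⟶ W) (x : W ⟶ X) (s : Γs B W) :
    (mk' (c := c) x s).res k = mk' (k ≫ x) (r B k s) := by
  refine ext' (r_r G x k p) (fun h x' e e' => ?_)
  rw [res_φ k _ h x' e (by rw [e']; rw [mk'_t, mk'_t, ← Cd.pc, ← Cd.pc, Category.assoc]),
    mk'_φ x s _ x' _ (by rw [e', mk'_t, ← Cd.pc, Category.assoc]),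
    mk'_φ _ _ _ x' _ (by rw [e', mk'_t, ← Cd.pc])]
  simp only [r_r, Category.assoc]

theorem mk'_eq {W : Over S} (x x' : W ⟶ X) (s s' : Γs B W) (e : r G x p = r G x' p) (h : s' = s + c.δ x x' e) :
    mk' (c := c) x s = mk' x' s' := by
  refine ext' e (fun k y e₁ e₂ => ?_)
  rw [mk'_φ _ _ _ _ _ (by rw [e₁, mk'_t, Cd.pc]), mk'_φ _ _ _ _ _ (by rw [e₂, mk'_t, Cd.pc]), h, map_add, c.δ_nat,
    add_assoc, c.δ_trans]

/-- Every element with a lift is of the form `mk'`. -/
theorem eq_mk' {W : Over S} (a : El c W) (x : W ⟶ X) (e : r G x p = a.t) :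
    a = mk' x (a.φ (𝟙 W) x (by rw [r_id]; exact e)) := by
  refine ext' e.symm (fun k y e₁ e₂ => ?_)
  rw [mk'_φ _ _ _ _ _ (by rw [e₂, mk'_t, Cd.pc]), a.nat k (𝟙 W) x _ (by rw [Category.comp_id, Cd.pc, e]),
    ← a.wd (k ≫ 𝟙 W) (k ≫ x) y _ (by rw [e₁, Category.comp_id])]
  exact a.φ_congr _ (Category.comp_id k).symm rfl _

theorem exists_mk' {W : Over S} (a : El c W) :
    Loc W (fun V k => ∃ (x : V ⟶ X) (s : Γs B V), a.res k = mk' x s) :=
  (c.lift a.t).mono (fun _ k ⟨x, hx⟩ => ⟨x, _, eq_mk' (a.res k) x hx⟩)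

theorem mk'_inj {W : Over S} (x : W ⟶ X) (s s' : Γs B W) (h : mk' (c := c) x s = mk' x s') : s = s' := by
  have h1 : ∀ (a a' : El c W) (_ : a = a') (e : r G x p = r G (𝟙 W) a.t) (e' : r G x p = r G (𝟙 W) a'.t),
      a.φ (𝟙 W) x e = a'.φ (𝟙 W) x e' := by
    rintro a _ rfl e e'
    rfl
  have h2 := h1 _ _ h (by rw [r_id, mk'_t]) (by rw [r_id, mk'_t])
  rw [mk'_φ _ _ _ _ _ (by rw [Category.id_comp]), mk'_φ _ _ _ _ _ (by rw [Category.id_comp]), r_id, r_id] at h2
  exact add_right_cancel h2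

theorem mk'_eq_iff {W : Over S} (x x' : W ⟶ X) (s s' : Γs B W) (e : r G x p = r G x' p) :
    mk' (c := c) x s = mk' x' s' ↔ s' = s + c.δ x x' e :=
  ⟨fun h => (mk'_inj x' _ _ ((mk'_eq x x' s _ e rfl).symm.trans h)).symm, mk'_eq x x' s s' e⟩

theorem t_eq_of_mk' {W : Over S} {x x' : W ⟶ X} {s s' : Γs B W} (h : mk' (c := c) x s = mk' x' s') :
    r G x p = r G x' p := congrArg El.t h

/-- Elements which agree locally agree. -/
theorem ext_loc' {W : Over S} {a a' : El c W} (h : Loc W (fun _ k => a.res k = a'.res k)) : a = a' := by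
  have ht : a.t = a'.t := ext_loc G (h.mono (fun V k hk => congrArg El.t hk))
  refine ext' ht (fun {V} k x e e' => ext_loc B ((h.pull k).mono ?_))
  rintro V' l ⟨W', b, m, hbm, hm⟩
  have hm' : a.res (l ≫ k) = a'.res (l ≫ k) := by
    rw [← hbm, ← res_res, hm, res_res]
  have h1 : ∀ (a a' : El c V') (_ : a = a') (e : r G (l ≫ x) p = r G (𝟙 V') a.t) (e' : r G (l ≫ x) p = r G (𝟙 V') a'.t),
      a.φ (𝟙 V') (l ≫ x) e = a'.φ (𝟙 V') (l ≫ x) e' := by
    rintro a _ rfl e e'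
    rfl
  have e1 : r G (l ≫ x) p = r G (l ≫ k) a.t := he e l
  have e2 : r G (l ≫ x) p = r G (l ≫ k) a'.t := he e' l
  have h2 := h1 _ _ hm' (by rw [r_id, res_t, e1]) (by rw [r_id, res_t, e2])
  rw [res_φ _ _ _ _ _ (by rw [Category.id_comp, e1]), res_φ _ _ _ _ _ (by rw [Category.id_comp, e2])] at h2
  rw [a.nat l k x e e1, a'.nat l k x e' e2]
  refine Eq.trans ?_ (h2.trans ?_)
  · exact a.φ_congr _ (Category.id_comp _).symm rfl _
  · exact a'.φ_congr _ (Category.id_comp _) rfl _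

/-- Relational gluing of elements. -/
theorem glue_loc' {U : Over S} (R : ∀ V : Over S, (V ⟶ U) → El c V → Prop)
    (hr : ∀ {V V' : Over S} (g : V' ⟶ V) (k : V ⟶ U) (s : El c V), R V k s → R V' (g ≫ k) (s.res g))
    (hf : ∀ {V : Over S} (k : V ⟶ U) (s s' : El c V), R V k s → R V k s' → s = s')
    (hl : Loc U (fun V k => ∃ s, R V k s)) :
    ∃ a : El c U, ∀ (V : Over S) (k : V ⟶ U) (s : El c V), R V k s → a.res k = s := by
  obtain ⟨t, ht⟩ := glue_loc G (U := U) (fun V k τ => ∃ s, R V k s ∧ s.t = τ)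
    (by
      rintro V V' g k _ ⟨s, hs, rfl⟩
      exact ⟨s.res g, hr g k s hs, rfl⟩)
    (by
      rintro V k _ _ ⟨s, hs, rfl⟩ ⟨s', hs', rfl⟩
      rw [hf k s s' hs hs'])
    (hl.mono (fun V k ⟨s, hs⟩ => ⟨_, s, hs, rfl⟩))
  have ht' : ∀ (V : Over S) (k : V ⟶ U) (s : El c V), R V k s → r G k t = s.t := fun V k s hs =>
    ht V k _ ⟨s, hs, rfl⟩
  have key : ∀ {V : Over S} (h : V ⟶ U) (x : V ⟶ X) (_ : r G x p = r G h t), ∃ b : Γs B V,
      ∀ (V' : Over S) (k : V' ⟶ V) (s : El c V') (_ : R V' (k ≫ h) s) (e' : r G (k ≫ x) p = r G (𝟙 V') s.t),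
        r B k b = s.φ (𝟙 V') (k ≫ x) e' := by
    intro V h x e
    obtain ⟨b, hb⟩ := glue_loc B (U := V) (fun V' k τ => ∃ (s : El c V') (_ : R V' (k ≫ h) s)
        (e' : r G (k ≫ x) p = r G (𝟙 V') s.t), τ = s.φ (𝟙 V') (k ≫ x) e')
      (by
        rintro V₁ V₂ g k _ ⟨s, hs, e', rfl⟩
        have h1 : r G ((g ≫ k) ≫ x) p = r G g s.t := by
          rw [Category.assoc, Cd.pc, e', r_id]
        refine ⟨s.res g, by rw [Category.assoc]; exact hr g _ s hs, by rw [r_id]; exact h1, ?_⟩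
        rw [s.nat g _ _ _ (by rw [← Category.assoc, h1, Category.comp_id]),
          res_φ _ _ _ _ _ (by rw [h1, Category.id_comp])]
        exact s.φ_congr _ (by rw [Category.comp_id, Category.id_comp]) (Category.assoc _ _ _).symm _)
      (by
        rintro V₁ k _ _ ⟨s, hs, e', rfl⟩ ⟨s', hs', e'', rfl⟩
        obtain rfl := hf _ s s' hs hs'
        rfl)
      ((hl.pull h).mono (by
        rintro V' k ⟨W, a, l, hal, s, hs⟩
        have h1 := hr a l s hs
        rw [hal] at h1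
        refine ⟨_, s.res a, h1, ?_, rfl⟩
        rw [r_id, ← ht' _ _ _ h1, Cd.pc, e, r_r]))
    exact ⟨b, fun V' k s hs e' => hb V' k _ ⟨s, hs, e', rfl⟩⟩
  choose φ hφ using @key
  refine ⟨⟨t, fun {V} h x e => φ h x e, fun {V V'} k h x e e' => ?_, fun {V} h x x' e e' => ?_⟩,
    fun V k s hs => ?_⟩
  · refine ext_loc B ((hl.pull (k ≫ h)).mono ?_)
    rintro V₁ l ⟨W, a, m, ham, s, hs⟩
    have h1 := hr a m s hs
    rw [ham] at h1
    have h2 : r G (l ≫ k ≫ x) p = r G (𝟙 V₁) (s.res a).t := by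
      rw [r_id, ← ht' _ _ _ h1, Cd.pc, e', r_r]
    rw [r_r, hφ h x e V₁ (l ≫ k) (s.res a) (by rw [Category.assoc]; exact h1) (by rw [Category.assoc]; exact h2),
      hφ (k ≫ h) (k ≫ x) e' V₁ l (s.res a) h1 h2]
    exact (s.res a).φ_congr _ rfl (Category.assoc _ _ _) _
  · refine ext_loc B ((hl.pull h).mono ?_)
    rintro V₁ l ⟨W, a, m, ham, s, hs⟩
    have h1 := hr a m s hs
    rw [ham] at h1
    have h2 : r G (l ≫ x) p = r G (𝟙 V₁) (s.res a).t := by
      rw [r_id, ← ht' _ _ _ h1, Cd.pc, e, r_r]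
    have h2' : r G (l ≫ x') p = r G (𝟙 V₁) (s.res a).t := by
      rw [r_id, ← ht' _ _ _ h1, Cd.pc, e', r_r]
    rw [map_add, hφ h x e V₁ l (s.res a) h1 h2, hφ h x' e' V₁ l (s.res a) h1 h2', c.δ_nat]
    exact (s.res a).wd _ _ _ _ _
  · refine ext' (ht' V k s hs) (fun {V₁} h x e e' => ?_)
    have h1 := hr h k s hs
    have h2 : r G (𝟙 V₁ ≫ x) p = r G (𝟙 V₁) (s.res h).t := by
      rw [r_id, Category.id_comp, e']
      rfl
    have h3 : r G x p = r G (h ≫ k) t := by rw [← r_r]; exact e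
    have h4 := hφ (h ≫ k) x h3 V₁ (𝟙 V₁) (s.res h) (by rw [Category.id_comp]; exact h1) h2
    rw [r_id] at h4
    refine Eq.trans ?_ (h4.trans ?_)
    · rfl
    · rw [res_φ _ _ _ _ _ (by rw [Category.id_comp, Category.id_comp]; exact e')]
      exact s.φ_congr _ (Category.id_comp _) (Category.id_comp _) _

/-! ### The group structure -/

theorem exists_add {W : Over S} (a a' : El c W) : ∃ a'' : El c W, ∀ {V : Over S} (k : V ⟶ W) (x y z : V ⟶ X)
    (h : r G x p + r G y p = r G z p) (s s' : Γs B V), a.res k = mk' x s → a'.res k = mk' y s' →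
      a''.res k = mk' z (s + s' + c.b x y z h) := by
  obtain ⟨a'', h''⟩ := glue_loc' (c := c) (U := W) (fun V k ε => ∃ (x y z : V ⟶ X)
      (h : r G x p + r G y p = r G z p) (s s' : Γs B V), a.res k = mk' x s ∧ a'.res k = mk' y s' ∧
      ε = mk' z (s + s' + c.b x y z h))
    (by
      rintro V V' g k _ ⟨x, y, z, h, s, s', e, e', rfl⟩
      refine ⟨g ≫ x, g ≫ y, g ≫ z, Cd.h2 g h, r B g s, r B g s', ?_, ?_, ?_⟩
      · rw [← res_res, e, res_mk']
      · rw [← res_res, e', res_mk']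
      · rw [res_mk', map_add, map_add, c.nat'])
    (by
      rintro V k _ _ ⟨x, y, z, h, s, s', e, e', rfl⟩ ⟨x₁, y₁, z₁, h₁, s₁, s₁', e₁, e₁', rfl⟩
      have f := e.symm.trans e₁
      have f' := e'.symm.trans e₁'
      have ex := t_eq_of_mk' f
      have ey := t_eq_of_mk' f'
      have ez : r G z p = r G z₁ p := by rw [← h, ← h₁, ex, ey]
      rw [mk'_eq_iff _ _ _ _ ex] at f
      rw [mk'_eq_iff _ _ _ _ ey] at f'
      refine mk'_eq _ _ _ _ ez ?_
      rw [f, f', c.b_all x y z x₁ y₁ z₁ h h₁ ex ey ez]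
      abel)
    (a.exists_mk'.bind (fun V k ⟨x, s, hx⟩ => (a'.res k).exists_mk'.bind (fun V' k' ⟨y, s', hy⟩ =>
      (c.lift (r G (k' ≫ x) p + r G y p)).mono (fun V'' k'' ⟨z, hz⟩ => by
        have h : r G (k'' ≫ k' ≫ x) p + r G (k'' ≫ y) p = r G z p := by
          rw [hz, map_add, Cd.pc k'', Cd.pc k'' y]
        refine ⟨_, k'' ≫ k' ≫ x, k'' ≫ y, z, h, r B k'' (r B k' s), r B k'' s', ?_, ?_, rfl⟩
        · rw [← res_mk', ← res_mk', ← hx, res_res, res_res, Category.assoc]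
        · rw [← res_mk', ← hy, res_res, res_res, Category.assoc]))))
  exact ⟨a'', fun {V} k x y z h s s' e e' => h'' V k _ ⟨x, y, z, h, s, s', e, e', rfl⟩⟩

instance {W : Over S} : Add (El c W) := ⟨fun a a' => (exists_add a a').choose⟩

theorem res_add_mk' {W V : Over S} {a a' : El c W} (k : V ⟶ W) (x y z : V ⟶ X)
    (h : r G x p + r G y p = r G z p) (s s' : Γs B V) (e : a.res k = mk' x s) (e' : a'.res k = mk' y s') :
    (a + a').res k = mk' z (s + s' + c.b x y z h) :=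
  (exists_add a a').choose_spec k x y z h s s' e e'

theorem mk'_add_mk' {W : Over S} (x y z : W ⟶ X) (h : r G x p + r G y p = r G z p) (s s' : Γs B W) :
    mk' (c := c) x s + mk' y s' = mk' z (s + s' + c.b x y z h) := by
  have := res_add_mk' (a := mk' (c := c) x s) (a' := mk' y s') (𝟙 W) x y z h s s' (res_id _) (res_id _)
  rwa [res_id] at this

/-- Local presentation of two elements. -/
theorem exists_two {W : Over S} (a a' : El c W) :
    Loc W (fun V k => ∃ (x y z : V ⟶ X) (_ : r G x p + r G y p = r G z p) (s s' : Γs B V),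
      a.res k = mk' x s ∧ a'.res k = mk' y s') :=
  (a.exists_mk'.bind (fun V k ⟨x, s, hx⟩ => (a'.res k).exists_mk'.bind (fun V' k' ⟨y, s', hy⟩ =>
      (c.lift (r G (k' ≫ x) p + r G y p)).mono (fun V'' k'' ⟨z, hz⟩ => by
        have h : r G (k'' ≫ k' ≫ x) p + r G (k'' ≫ y) p = r G z p := by
          rw [hz, map_add, Cd.pc k'', Cd.pc k'' y]
        refine ⟨k'' ≫ k' ≫ x, k'' ≫ y, z, h, r B k'' (r B k' s), r B k'' s', ?_, ?_⟩
        · rw [← res_mk', ← res_mk', ← hx, res_res, res_res, Category.assoc]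
        · rw [← res_mk', ← hy, res_res, res_res, Category.assoc]))))

theorem res_add {W W' : Over S} (k : W' ⟶ W) (a a' : El c W) : (a + a').res k = a.res k + a'.res k := by
  refine ext_loc' ((exists_two (a.res k) (a'.res k)).mono ?_)
  rintro V l ⟨x, y, z, h, s, s', e, e'⟩
  rw [res_add_mk' l x y z h s s' e e', res_res, res_add_mk' (l ≫ k) x y z h s s' (by rw [← res_res, e])
    (by rw [← res_res, e'])]

theorem add_t {W : Over S} (a a' : El c W) : (a + a').t = a.t + a'.t := by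
  refine ext_loc G ((exists_two a a').mono ?_)
  rintro V l ⟨x, y, z, h, s, s', e, e'⟩
  have e1 := congrArg El.t (res_add_mk' l x y z h s s' e e')
  have e2 := congrArg El.t e
  have e3 := congrArg El.t e'
  rw [res_t, mk'_t] at e1 e2 e3
  rw [e1, map_add, e2, e3, h]

theorem add_comm' {W : Over S} (a a' : El c W) : a + a' = a' + a := by
  refine ext_loc' ((exists_two a a').mono ?_)
  rintro V l ⟨x, y, z, h, s, s', e, e'⟩
  rw [res_add_mk' l x y z h s s' e e', res_add_mk' l y x z ((add_comm _ _).trans h) s' s e' e,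
    c.symm y x z _ h, add_comm s s']

theorem add_assoc' {W : Over S} (a₁ a₂ a₃ : El c W) : a₁ + a₂ + a₃ = a₁ + (a₂ + a₃) := by
  refine ext_loc' ((exists_two a₁ a₂).bind ?_)
  rintro V l ⟨x, y, u, h, s, s', e, e'⟩
  refine ((exists_two (a₂.res l) (a₃.res l)).bind ?_)
  rintro V' l' ⟨y', z, v, h', s₁', s'', e₁', e''⟩
  refine (c.lift (r G (l' ≫ u) p + r G z p)).mono ?_
  rintro V'' l'' ⟨w, hw⟩
  have k1 : a₁.res (l'' ≫ l' ≫ l) = mk' (l'' ≫ l' ≫ x) (r B l'' (r B l' s)) := by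
    rw [← res_mk', ← res_mk', ← e, res_res, res_res, Category.assoc]
  have k2 : a₂.res (l'' ≫ l' ≫ l) = mk' (l'' ≫ l' ≫ y) (r B l'' (r B l' s')) := by
    rw [← res_mk', ← res_mk', ← e', res_res, res_res, Category.assoc]
  have k3 : a₃.res (l'' ≫ l' ≫ l) = mk' (l'' ≫ z) (r B l'' s'') := by
    rw [← res_mk', ← e'', res_res, res_res, Category.assoc]
  have hy : r G (l' ≫ y) p = r G y' p := by
    apply t_eq_of_mk' (c := c) (s := r B l' s') (s' := s₁')
    rw [← res_mk', ← e', e₁']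
  have g1 : r G (l'' ≫ l' ≫ x) p + r G (l'' ≫ l' ≫ y) p = r G (l'' ≫ l' ≫ u) p := Cd.h2 l'' (Cd.h2 l' h)
  have g2 : r G (l'' ≫ l' ≫ u) p + r G (l'' ≫ z) p = r G w p := by
    rw [hw, map_add, Cd.pc l'', Cd.pc l'' z]
  have g3 : r G (l'' ≫ l' ≫ y) p + r G (l'' ≫ z) p = r G (l'' ≫ v) p := by
    rw [Cd.pc l'', hy, ← Cd.pc]
    exact Cd.h2 l'' h'
  have g4 : r G (l'' ≫ l' ≫ x) p + r G (l'' ≫ v) p = r G w p := by
    rw [← g3, ← add_assoc, g1, g2]
  rw [Category.assoc, res_add_mk' _ _ _ _ g2 _ _ (res_add_mk' _ _ _ _ g1 _ _ k1 k2) k3,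
    res_add_mk' _ _ _ _ g4 _ _ k1 (res_add_mk' _ _ _ _ g3 _ _ k2 k3)]
  congr 1
  have e5 := c.assoc _ _ _ _ _ _ g1 g2 g3 g4
  rw [← sub_eq_zero] at e5
  rw [← sub_eq_zero, ← e5]
  abel

theorem hz2 {W : Over S} {x : W ⟶ X} (e : r G x p = 0) : r G x p + r G x p = r G x p := by
  rw [e, add_zero]

instance {W : Over S} : Zero (El c W) := ⟨{
  t := 0
  φ := fun h x e => - c.b x x x (hz2 (by rw [e, map_zero]))
  nat := fun k h x e e' => by rw [map_neg, c.nat']
  wd := fun h x x' e e' => by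
    rw [c.b_all x x x x' x' x' _ (hz2 (by rw [e', map_zero])) (e.trans e'.symm) (e.trans e'.symm) (e.trans e'.symm)]
    abel }⟩

theorem zero_t {W : Over S} : (0 : El c W).t = 0 := rfl

theorem zero_φ {W V : Over S} (h : V ⟶ W) (x : V ⟶ X) (e : r G x p = r G h (0 : El c W).t)
    (e' : r G x p + r G x p = r G x p) : (0 : El c W).φ h x e = - c.b x x x e' := rfl

theorem zero_eq {W : Over S} (x : W ⟶ X) (e : r G x p = 0) : (0 : El c W) = mk' x (- c.b x x x (hz2 e)) :=
  eq_mk' _ x e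

theorem res_zero {W W' : Over S} (k : W' ⟶ W) : (0 : El c W).res k = 0 := by
  refine ext' (map_zero _) (fun h x e e' => ?_)
  rfl

theorem zero_add' {W : Over S} (a : El c W) : 0 + a = a := by
  refine ext_loc' (a.exists_mk'.bind ?_)
  rintro V k ⟨y, s, hy⟩
  refine (c.lift (0 : Γs G V)).mono ?_
  rintro V' k' ⟨x, hx⟩
  rw [map_zero] at hx
  have h1 : r G x p + r G (k' ≫ y) p = r G (k' ≫ y) p := by rw [hx, zero_add]
  have h1' : r G (k' ≫ y) p + r G x p = r G (k' ≫ y) p := by rw [hx, add_zero]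
  have h2 : a.res (k' ≫ k) = mk' (k' ≫ y) (r B k' s) := by
    rw [← res_mk', ← hy, res_res]
  rw [res_add_mk' _ _ _ _ h1 _ _ ((res_zero _).trans (zero_eq x hx)) h2, h2, c.symm _ _ _ h1 h1',
    c.b_zero _ _ _ h1' hx (hz2 hx) rfl, c.δ_self]
  congr 1
  rw [add_zero]
  abel

instance {W : Over S} : AddCommMonoid (El c W) where
  add_assoc := add_assoc'
  zero_add := zero_add'
  add_zero a := (add_comm' a 0).trans (zero_add' a)
  nsmul := nsmulRec
  add_comm := add_comm'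

theorem exists_neg_loc {W : Over S} (a : El c W) : Loc W (fun _ k => ∃ ε, a.res k + ε = 0) :=
  a.exists_mk'.bind (fun V k ⟨x, s, hx⟩ => (c.lift (0 : Γs G V)).bind (fun V' k' ⟨o, ho⟩ =>
    (c.lift (- r G (k' ≫ x) p)).mono (fun V'' k'' ⟨y, hy⟩ => by
      rw [map_zero] at ho
      have ho' : r G (k'' ≫ o) p = 0 := by rw [Cd.pc, ho, map_zero]
      have h : r G (k'' ≫ k' ≫ x) p + r G y p = r G (k'' ≫ o) p := by
        rw [hy, map_neg, Cd.pc k'', ho', add_neg_cancel]
      refine ⟨mk' y (- r B k'' (r B k' s) - c.b _ _ _ h - c.b _ _ _ (hz2 ho')), ?_⟩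
      have h1 : a.res ((k'' ≫ k') ≫ k) = mk' (k'' ≫ k' ≫ x) (r B k'' (r B k' s)) := by
        rw [← res_mk', ← res_mk', ← hx, res_res, res_res, Category.assoc]
      rw [h1, mk'_add_mk' _ _ _ h, zero_eq (k'' ≫ o) ho']
      congr 1
      abel)))

theorem exists_neg {W : Over S} (a : El c W) : ∃ a' : El c W, a' + a = 0 := by
  obtain ⟨a', h⟩ := glue_loc' (c := c) (U := W) (fun V k ε => a.res k + ε = 0)
    (by
      rintro V V' g k ε h
      have := congrArg (res g) h
      rw [res_add, res_zero, res_res] at this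
      exact this)
    (by
      rintro V k ε ε' h h'
      exact left_neg_eq_right_neg ((add_comm _ _).trans h) h')
    a.exists_neg_loc
  refine ⟨a', ext_loc' (a.exists_neg_loc.mono ?_)⟩
  rintro V k ⟨ε, hε⟩
  rw [res_add, h V k ε hε, add_comm, hε, res_zero]

instance {W : Over S} : Neg (El c W) := ⟨fun a => (exists_neg a).choose⟩

instance {W : Over S} : AddCommGroup (El c W) where
  zsmul := zsmulRec
  neg_add_cancel a := (exists_neg a).choose_spec
  add_comm := add_comm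

/-- Restriction as a homomorphism. -/
def resHom {W W' : Over S} (k : W' ⟶ W) : El c W →+ El c W' where
  toFun := res k
  map_zero' := res_zero k
  map_add' := res_add k

end El

variable (c) in
/-- The presheaf of elements. -/
def pre : (Over S)ᵒᵖ ⥤ AddCommGrpCat.{u + 1} where
  obj W := AddCommGrpCat.of (El c W.unop)
  map k := AddCommGrpCat.ofHom (El.resHom k.unop)
  map_id _ := AddCommGrpCat.ext fun a => El.res_id a
  map_comp k l := AddCommGrpCat.ext fun a => (El.res_res k.unop l.unop a).symm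

theorem isSheaf_pre : Presheaf.IsSheaf (EtFppf.J S) (pre c) := by
  rw [Presheaf.isSheaf_iff_isSheaf_forget _ _ (forget AddCommGrpCat.{u + 1}), isSheaf_iff_isSheaf_of_type]
  intro U R hR x hx
  have hl : Loc U (fun _ k => R k) := fun y => by
    obtain ⟨i, h1, h2, h3⟩ := isCov_of_mem hR y
    exact ⟨i.1, i.2.1, h1, h2, h3, i.2.2⟩
  obtain ⟨a, ha⟩ := El.glue_loc' (c := c) (U := U) (fun V k ε => ∃ hk : R k, ε = (show El c V from x k hk))
    (by
      rintro V V' g k _ ⟨hk, rfl⟩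
      exact ⟨R.downward_closed hk g, (hx.to_sieveCompatible k g hk).symm⟩)
    (by
      rintro V k _ _ ⟨hk, rfl⟩ ⟨hk', rfl⟩
      rfl)
    (hl.mono (fun V k hk => ⟨_, hk, rfl⟩))
  refine ⟨(show El c U from a), fun V k hk => ha V k _ ⟨hk, rfl⟩, fun a' ha' => ?_⟩
  refine El.ext_loc' (c := c) (hl.mono ?_)
  intro V k hk
  rw [ha V k _ ⟨hk, rfl⟩]
  exact ha' k hk

variable (c) in
/-- The sheaf of elements. -/
def E : EtFppf.AbF S := ⟨pre c, isSheaf_pre⟩

theorem r_E {W W' : Over S} (k : W' ⟶ W) (a : El c W) : r (E c) k (show Γs (E c) W from a) = a.res k := rfl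

variable (c) in
/-- The projection. -/
def q : E c ⟶ G := ⟨{
  app := fun W => AddCommGrpCat.ofHom
    { toFun := fun a : El c W.unop => (show G.obj.obj W from a.t)
      map_zero' := rfl
      map_add' := El.add_t }
  naturality := fun _ _ _ => AddCommGrpCat.ext fun _ => rfl }⟩

theorem m_q {W : Over S} (a : El c W) : m (q c) W (show Γs (E c) W from a) = a.t := rfl

variable (c) in
/-- The inclusion on sections. -/
def iEl {W : Over S} (s : Γs B W) : El c W where
  t := 0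
  φ := fun h x e => r B h s - c.b x x x (El.hz2 (by rw [e, map_zero]))
  nat := fun k h x e e' => by rw [map_sub, c.nat', r_r]
  wd := fun h x x' e e' => by
    rw [c.b_all x x x x' x' x' _ (El.hz2 (by rw [e', map_zero])) (e.trans e'.symm) (e.trans e'.symm) (e.trans e'.symm)]
    abel

theorem iEl_eq {W : Over S} (s : Γs B W) (x : W ⟶ X) (e : r G x p = 0) :
    iEl c s = El.mk' x (s - c.b x x x (El.hz2 e)) := by
  refine (El.eq_mk' _ x e).trans ?_
  congr 1
  change r B (𝟙 W) s - _ = _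
  rw [r_id]

theorem res_iEl {W W' : Over S} (k : W' ⟶ W) (s : Γs B W) : (iEl c s).res k = iEl c (r B k s) := by
  refine El.ext' (map_zero _) (fun h x e e' => ?_)
  change r B (h ≫ k) s - _ = r B h (r B k s) - _
  rw [r_r]

theorem iEl_add_mk' {W : Over S} (s : Γs B W) (x : W ⟶ X) (s' : Γs B W) :
    iEl c s + El.mk' x s' = El.mk' x (s + s') := by
  refine El.ext_loc' ((c.lift (0 : Γs G W)).mono ?_)
  rintro V k ⟨o, ho⟩
  rw [map_zero] at ho
  have h1 : r G o p + r G (k ≫ x) p = r G (k ≫ x) p := by rw [ho, zero_add]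
  have h1' : r G (k ≫ x) p + r G o p = r G (k ≫ x) p := by rw [ho, add_zero]
  rw [El.res_add_mk' _ _ _ _ h1 _ _ ((res_iEl k s).trans (iEl_eq _ o ho)) (El.res_mk' k x s'), El.res_mk',
    c.symm _ _ _ h1 h1', c.b_zero _ _ _ h1' ho (El.hz2 ho) rfl, c.δ_self]
  congr 1
  rw [map_add]
  abel

theorem iEl_add {W : Over S} (s s' : Γs B W) : iEl c (s + s') = iEl c s + iEl c s' := by
  refine El.ext_loc' ((c.lift (0 : Γs G W)).mono ?_)
  rintro V k ⟨o, ho⟩
  rw [map_zero] at ho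
  rw [El.res_add, res_iEl, res_iEl, res_iEl, iEl_eq (r B k s') o ho, iEl_add_mk', iEl_eq _ o ho, map_add]
  congr 1
  abel

theorem iEl_zero {W : Over S} : iEl c (0 : Γs B W) = 0 := by
  have := iEl_add (c := c) (0 : Γs B W) 0
  rw [add_zero] at this
  exact left_eq_add.mp this

theorem iEl_inj {W : Over S} {s s' : Γs B W} (h : iEl c s = iEl c s') : s = s' := by
  refine ext_loc B ((c.lift (0 : Γs G W)).mono ?_)
  rintro V k ⟨o, ho⟩
  rw [map_zero] at ho
  have h1 := congrArg (El.res k) h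
  rw [res_iEl, res_iEl, iEl_eq _ o ho, iEl_eq _ o ho] at h1
  exact sub_left_injective (El.mk'_inj _ _ _ h1)

variable (c) in
/-- The inclusion. -/
def i : B ⟶ E c := ⟨{
  app := fun W => AddCommGrpCat.ofHom
    { toFun := fun s => (iEl c (show Γs B W.unop from s) : El c W.unop)
      map_zero' := iEl_zero
      map_add' := iEl_add }
  naturality := fun W _ k => AddCommGrpCat.ext fun s => (res_iEl k.unop (show Γs B W.unop from s)).symm }⟩

theorem m_i {W : Over S} (s : Γs B W) : m (i c) W s = iEl c s := rfl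

theorem i_q : i c ≫ q c = 0 := by
  refine Sheaf.hom_ext (NatTrans.ext (funext fun W => AddCommGrpCat.ext fun s => ?_))
  rfl

theorem exists_iEl {W : Over S} (a : El c W) (h : a.t = 0) : ∃ s : Γs B W, iEl c s = a := by
  have hl : Loc W (fun V k => ∃ s : Γs B V, iEl c s = a.res k) := by
    refine (c.lift (0 : Γs G W)).mono ?_
    rintro V k ⟨o, ho⟩
    rw [map_zero] at ho
    have e : r G o p = (a.res k).t := by rw [El.res_t, h, map_zero, ho]
    refine ⟨(a.res k).φ (𝟙 V) o (by rw [r_id, e]) + c.b o o o (El.hz2 ho), ?_⟩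
    rw [iEl_eq _ o ho, add_sub_cancel_right]
    exact (El.eq_mk' (a.res k) o e).symm
  obtain ⟨s, hs⟩ := glue_loc B (U := W) (fun V k s => iEl c s = a.res k)
    (by
      intro V V' g k s hs
      rw [← res_iEl, hs, El.res_res])
    (by
      intro V k s s' hs hs'
      exact iEl_inj (hs.trans hs'.symm))
    hl
  refine ⟨s, El.ext_loc' (hl.mono ?_)⟩
  rintro V k ⟨s', hs'⟩
  rw [res_iEl, hs V k s' hs', hs']

theorem shortExact : (ShortComplex.mk (i c) (q c) i_q).ShortExact where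
  exact := by
    refine K453.SheafEx.exact_of_sections _ (fun U a ha => ?_)
    exact exists_iEl (show El c U from a) ha
  mono_f := by
    rw [K453.SheafEx.mono_iff_sections]
    intro U s s' h
    exact iEl_inj h
  epi_g := by
    change Epi (q c)
    rw [← Sheaf.isLocallySurjective_iff_epi']
    constructor
    intro U t
    rw [Groth.Agent.Etrest.BigEtSite.mem_J_iff]
    intro x
    obtain ⟨V, k, h1, h2, h3, y, hy⟩ := c.lift (show Γs G U from t) x
    exact ⟨V, k, ⟨(El.mk' y 0 : El c V), hy⟩, h1, h2, h3⟩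

variable (c) in
/-- The section over `X`. -/
def e : Γs (E c) X := (El.mk' (𝟙 X) 0 : El c X)

theorem m_q_e : m (q c) X (e c) = p := r_id G p

theorem r_e {W : Over S} (x : W ⟶ X) : r (E c) x (e c) = (El.mk' x 0 : El c W) := by
  refine (El.res_mk' x (𝟙 X) 0).trans ?_
  rw [map_zero, Category.comp_id]

theorem i_b {W : Over S} (x y z : W ⟶ X) (h : r G x p + r G y p = r G z p) :
    m (i c) W (c.b x y z h) = r (E c) x (e c) + r (E c) y (e c) - r (E c) z (e c) := by
  rw [eq_sub_iff_add_eq, r_e, r_e, r_e]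
  refine (iEl_add_mk' _ _ _).trans (Eq.trans ?_ (El.mk'_add_mk' _ _ _ h _ _).symm)
  congr 1
  abel

end El

open K452.HomPts K630.AbExt in
/-- Every symmetric cocycle on a covering comes from an extension. -/
theorem exists_dat_of_coc {T A X : Over S} [GrpObj T] [IsCommMonObj T] [GrpObj A] [IsCommMonObj A]
    (p : X ⟶ T) (hp : Dat.Cov p) (c : Coc A p) :
    ∃ (D : Dat T A) (e : Γs D.E X), m D.q X e = sec p ∧
      ∀ {W : Over S} (x y z : W ⟶ X) (h : (x ≫ p) * (y ≫ p) = z ≫ p),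
        m D.i W (sec (c.b x y z h)) = r D.E x e + r D.E y e - r D.E z e := by
  let c' : Cd (P T) (P A) (sec p) := {
    b := fun x y z h => sec (c.b x y z (sec_inj h))
    nat := fun k x y z h h' => by
      rw [r_sec]
      congr 1
      exact c.nat k x y z _ _
    symm := fun x y z h h' => by
      congr 1
      exact c.symm x y z _ _
    assoc := fun x y z u v w h₁ h₂ h₃ h₄ => by
      rw [← sec_mul, ← sec_mul]
      congr 1
      exact c.assoc x y z u v w _ _ _ _
    lift := fun t x => by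
      obtain ⟨V, k, y, h1, h2, h3, h4⟩ := hp.exists_lift (pt t) x
      exact ⟨V, k, h1, h2, h3, y, congrArg sec h4⟩ }
  exact ⟨⟨E c', i c', q c', i_q, shortExact⟩, e c', m_q_e, fun x y z h => i_b (c := c') x y z (congrArg sec h)⟩

end K544.CocExt
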